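import Cfsg.Agent.EqLemmas

/-!
Strongly `p`-embedded subgroups, in the form "`g ∉ H → ¬ p ∣ |H ⊓ H^g|`".

* `normalizer_le`: the normalizer of a nontrivial `p`-subgroup of `H` lies in `H`.
* `sylow_le_of_inf_ne_bot`: a Sylow subgroup meeting `H` nontrivially lies in `H`.
* `sylow_le`: `H` contains a Sylow `p`-subgroup as soon as `p ∣ |H|`.
* `not_dvd_relIndex_inf`: for `N` normal, `P ⊓ N` is Sylow in `N`.
* `normalizer_inf_sup_eq_top`: Frattini argument for `P ⊓ N`.
-/

set_option autoImplicit false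

namespace Cfsg.Agent.StrongEmb

variable {G : Type*} [Group G] [Finite G] {p : ℕ} [Fact p.Prime]

/-- For a normal subgroup `N` and a Sylow subgroup `P`, `P ⊓ N` is Sylow in `N`. -/
theorem not_dvd_relIndex_inf (P : Sylow p G) (N : Subgroup G) [N.Normal] :
    ¬ p ∣ (P : Subgroup G).relIndex N := by
  classical
  let Q : Sylow p ↥N := default
  obtain ⟨P₁, hP₁⟩ := Sylow.exists_comap_subtype_eq Q
  obtain ⟨g, hg⟩ := MulAction.exists_smul_eq G P₁ P
  have hmap : (P : Subgroup G) = (P₁ : Subgroup G).map (MulAut.conj g).toMonoidHom := by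
    rw [← hg]; rfl
  have hNmap : N.map (MulAut.conj g).toMonoidHom = N := Subgroup.Normal.map_conj_eq N g
  have h1 : (P : Subgroup G).relIndex N = (P₁ : Subgroup G).relIndex N := by
    conv_lhs => rw [hmap, ← hNmap]
    exact Subgroup.relIndex_map_map_of_injective _ _ (MulAut.conj g).injective
  rw [h1]
  have h2 : (P₁ : Subgroup G).relIndex N = (Q : Subgroup ↥N).index := by
    rw [← hP₁]; rfl
  rw [h2]
  exact Q.not_dvd_index

/-- Frattini argument for the trace of a Sylow subgroup on a normal subgroup. -/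
theorem normalizer_inf_sup_eq_top (P : Sylow p G) (N : Subgroup G) [N.Normal] :
    Subgroup.normalizer (((P : Subgroup G) ⊓ N : Subgroup G) : Set G) ⊔ N = ⊤ := by
  have hpg : IsPGroup p ↥((P : Subgroup G).subgroupOf N) := P.isPGroup'.comap_subtype
  let Q : Sylow p ↥N := hpg.toSylow (not_dvd_relIndex_inf P N)
  have h := Sylow.normalizer_sup_eq_top Q
  have h2 : (Q : Subgroup ↥N).map N.subtype = (P : Subgroup G) ⊓ N := Subgroup.subgroupOf_map_subtype _ _
  rwa [h2] at h

/-- In a strongly `p`-embedded subgroup, normalizers of nontrivial `p`-subgroups stay inside. -/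
theorem normalizer_le {H : Subgroup G}
    (hse : ∀ g : G, g ∉ H → ¬ p ∣ Nat.card ↥(H ⊓ H.map (MulAut.conj g).toMonoidHom))
    {R : Subgroup G} (hR : IsPGroup p R) (hR1 : R ≠ ⊥) (hRH : R ≤ H) :
    Subgroup.normalizer (R : Set G) ≤ H := by
  intro g hg
  by_contra hgH
  apply hse g hgH
  have h1 : R ≤ H.map (MulAut.conj g).toMonoidHom := by
    intro r hr
    refine ⟨g⁻¹ * r * g, hRH ((Subgroup.mem_normalizer_iff''.mp hg r).mp hr), ?_⟩
    simp only [MulEquiv.coe_toMonoidHom, MulAut.conj_apply]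
    group
  obtain ⟨k, hk⟩ := IsPGroup.iff_card.mp hR
  have hk0 : k ≠ 0 := by
    rintro rfl
    exact hR1 (Subgroup.card_eq_one.mp (by simpa using hk))
  refine dvd_trans ?_ (Subgroup.card_dvd_of_le (le_inf hRH h1))
  rw [hk]
  exact dvd_pow_self p hk0

/-- A Sylow subgroup meeting a strongly `p`-embedded subgroup nontrivially lies in it. -/
theorem sylow_le_of_inf_ne_bot {H : Subgroup G}
    (hse : ∀ g : G, g ∉ H → ¬ p ∣ Nat.card ↥(H ⊓ H.map (MulAut.conj g).toMonoidHom))
    (S : Sylow p G) (hR1 : H ⊓ (S : Subgroup G) ≠ ⊥) : (S : Subgroup G) ≤ H := by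
  by_contra hne
  haveI := S.isPGroup'.isNilpotent
  let K : Subgroup ↥(S : Subgroup G) := H.subgroupOf S
  have hK : K < ⊤ := lt_top_iff_ne_top.mpr fun h => hne (Subgroup.subgroupOf_eq_top.mp h)
  obtain ⟨g, hg, hgK⟩ := SetLike.exists_of_lt (Group.normalizerCondition_of_isNilpotent K hK)
  apply hgK
  have hRp : IsPGroup p ↥(H ⊓ (S : Subgroup G)) := S.isPGroup'.to_le inf_le_right
  apply normalizer_le hse hRp hR1 inf_le_left
  apply Subgroup.mem_normalizer_fintype
  rintro n ⟨hn1, hn2⟩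
  exact ⟨(Subgroup.mem_normalizer_iff.mp hg ⟨n, hn2⟩).mp hn1,
    Subgroup.mul_mem _ (Subgroup.mul_mem _ g.2 hn2) (Subgroup.inv_mem _ g.2)⟩

/-- A strongly `p`-embedded subgroup contains a Sylow `p`-subgroup. -/
theorem sylow_le {H : Subgroup G} (hpH : p ∣ Nat.card H)
    (hse : ∀ g : G, g ∉ H → ¬ p ∣ Nat.card ↥(H ⊓ H.map (MulAut.conj g).toMonoidHom)) :
    ∃ P : Sylow p G, (P : Subgroup G) ≤ H := by
  obtain ⟨x, hx⟩ := exists_prime_orderOf_dvd_card' p hpH
  have hxp : IsPGroup p ↥(Subgroup.zpowers (x : G)) := by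
    refine IsPGroup.of_card (n := 1) ?_
    rw [Nat.card_zpowers, Subgroup.orderOf_coe, hx, pow_one]
  obtain ⟨S, hS⟩ := hxp.exists_le_sylow
  refine ⟨S, sylow_le_of_inf_ne_bot hse S ?_⟩
  intro h
  have h2 : (x : G) = 1 := Subgroup.mem_bot.mp (h.le ⟨x.2, hS (Subgroup.mem_zpowers _)⟩)
  rw [← Subgroup.orderOf_coe, h2, orderOf_one] at hx
  exact (Fact.out : p.Prime).ne_one hx.symm

end Cfsg.Agent.StrongEmb
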